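import Groth.Agent.CurveLib.MaxSections
import Groth.Agent.CurveLib.GlobalFun
import Groth.Agent.AmpleLib.UnivClosed
import Groth.Agent.AmpleEmb.Inverse
import Groth.Agent.ZeroSchemeLib.Basic
import Groth.Agent.QGorLib.Depth
import Groth.Agent.S7680
import Groth.Agent.FibDimLib.Basic

/-!
# Connectedness of zero schemes of sections of ample modules
-/

set_option autoImplicit false
set_option backward.isDefEq.respectTransparency false
set_option backward.isDefEq.respectTransparency.types false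
set_option linter.style.haveILetI false

universe u

open CategoryTheory CategoryTheory.Limits AlgebraicGeometry TopologicalSpace Opposite
open Groth.Agent.PullbackMod Groth.Agent.DCohLib Groth.Agent.CurveLib
open scoped TensorProduct

noncomputable section

namespace Groth.Agent.ZeroConnLib

variable {X : Scheme.{u}}

/-- Connected schemes have only the trivial idempotent functions. -/
theorem idempotent_eq [ConnectedSpace X] {e : Γ(X, ⊤)} (he : e * e = e) : e = 0 ∨ e = 1 := by
  have hor : ∀ (x : X), x ∈ X.basicOpen e ↔ x ∉ X.basicOpen (1 - e) := by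
    intro x
    rw [X.mem_basicOpen e x (show x ∈ (⊤ : X.Opens) from trivial), X.mem_basicOpen (1 - e) x (show x ∈ (⊤ : X.Opens) from trivial), map_sub, map_one]
    have h : X.presheaf.germ ⊤ x trivial e * (1 - X.presheaf.germ ⊤ x trivial e) = 0 := by
      rw [mul_sub, mul_one, ← map_mul, he, sub_self]
    constructor
    · intro hu hu'
      exact not_isUnit_zero (h ▸ hu.mul hu')
    · intro hn
      by_contra hu
      exact hn (IsLocalRing.isUnit_one_sub_self_of_mem_nonunits _ hu)
  have hcl : IsClopen (X.basicOpen e : Set X) := by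
    refine ⟨isOpen_compl_iff.1 ?_, (X.basicOpen e).2⟩
    convert (X.basicOpen (1 - e)).2 using 1
    ext x
    exact (not_congr (hor x)).trans not_not
  rcases isClopen_iff.1 hcl with h | h
  · left
    refine TopCat.Presheaf.section_ext X.sheaf ⊤ _ _ fun x _ => ?_
    show X.presheaf.germ ⊤ x trivial e = X.presheaf.germ ⊤ x trivial 0
    have hx : x ∈ X.basicOpen (1 - e) := not_not.1 fun h' => (h ▸ ((hor x).2 h') : x ∈ (∅ : Set X))
    rw [X.mem_basicOpen (1 - e) x (show x ∈ (⊤ : X.Opens) from trivial), map_sub, map_one] at hx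
    rw [map_zero]
    refine hx.mul_left_eq_zero.1 ?_
    rw [mul_sub, mul_one, ← map_mul, he, sub_self]
  · right
    refine TopCat.Presheaf.section_ext X.sheaf ⊤ _ _ fun x _ => ?_
    show X.presheaf.germ ⊤ x trivial e = X.presheaf.germ ⊤ x trivial 1
    have hx : x ∈ X.basicOpen e := h.ge (Set.mem_univ x)
    rw [X.mem_basicOpen e x (show x ∈ (⊤ : X.Opens) from trivial)] at hx
    rw [map_one]
    refine hx.mul_left_cancel ?_
    rw [← map_mul, he, mul_one]

variable (k : Type u) [Field k] [X.Over (Spec (CommRingCat.of k))] [IsProper (X ↘ Spec (CommRingCat.of k))]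

include k in
/-- Global functions on a proper scheme form an artinian ring. -/
theorem isArtinianRing_global : IsArtinianRing Γ(X, ⊤) := by
  haveI := EulerIneqLib.isNoetherian_proper (X := X) k
  haveI := EulerIneqLib.finite_HH (k := k) (DevLib.isCoh_structureModule X) 0
  letI : Algebra k Γ(X, ⊤) := RingHom.toAlgebra (Coh.toGlobal (X ↘ Spec (CommRingCat.of k)) : k →+* Γ(X, ⊤))
  let el : Coh.HH X (Coh.structureModule X) 0 ≃ₗ[k] Γ(X, ⊤) :=
    { (CurveLib.secOf (Coh.structureModule X)) with map_smul' := fun r c => CurveLib.secOf_smul (k := k) _ r c }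
  haveI : Module.Finite k Γ(X, ⊤) := Module.Finite.equiv el
  exact IsArtinianRing.of_finite k Γ(X, ⊤)

include k in
/-- A function on a connected proper scheme is a unit or nilpotent. -/
theorem isUnit_or_isNilpotent [ConnectedSpace X] (a : Γ(X, ⊤)) : IsUnit a ∨ IsNilpotent a := by
  haveI := isArtinianRing_global (X := X) k
  obtain ⟨n, y, hy⟩ := IsArtinian.exists_pow_succ_smul_dvd (R := Γ(X, ⊤)) a (1 : Γ(X, ⊤))
  have h1 : a ^ n = a ^ (n + 1) * y := by
    simpa [smul_eq_mul] using hy.symm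
  have h2 : ∀ j, a ^ n = a ^ (n + j) * y ^ j := by
    intro j
    induction j with
    | zero => simp
    | succ j ih =>
      calc a ^ n = a ^ (n + j) * y ^ j := ih
        _ = a ^ n * (a ^ j * y ^ j) := by ring
        _ = a ^ (n + 1) * y * (a ^ j * y ^ j) := by rw [← h1]
        _ = a ^ (n + (j + 1)) * y ^ (j + 1) := by ring
  rcases idempotent_eq (e := a ^ n * y ^ n) (by
    calc a ^ n * y ^ n * (a ^ n * y ^ n) = a ^ (n + n) * y ^ n * y ^ n := by ring
      _ = a ^ n * y ^ n := by rw [← h2 n]) with h | h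
  · refine Or.inr ⟨n, ?_⟩
    rw [h2 n, pow_add, mul_assoc, h, mul_zero]
  · rcases Nat.eq_zero_or_pos n with rfl | hn
    · left
      refine IsUnit.of_mul_eq_one y ?_
      simpa using h1.symm
    · left
      rw [← mul_pow] at h
      exact isUnit_of_mul_isUnit_left ((isUnit_pow_iff hn.ne').1 (h ▸ isUnit_one))

variable {L : X.Modules}

omit [IsProper (X ↘ Spec (CommRingCat.of k))] [X.Over (Spec (CommRingCat.of k))] in
/-- Powers of a monomorphic section are monomorphisms. -/
theorem exists_nzd_powS (hL : PicF.IsInvertible L) (s : Coh.structureModule X ⟶ L) [Mono s] (n : ℕ) (x : X) :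
    ∃ (g : (CohB1.tensorPow L n).presheaf.stalk x) (r : X.presheaf.stalk x),
      Function.Bijective (fun a : X.presheaf.stalk x => a • g) ∧ r ∈ nonZeroDivisors (X.presheaf.stalk x) ∧
      stalkLin (AmpleLib.powS s n) x (ParaFLib.oneG x) = r • g := by
  induction n with
  | zero =>
    refine ⟨ParaFLib.oneG x, 1, ParaFLib.bijective_oneG x, one_mem _, ?_⟩
    rw [one_smul]
    show stalkLin (𝟙 (Coh.structureModule X)) x _ = _
    rw [stalkLin_id]
    rfl
  | succ n ih =>
    obtain ⟨g, r, hg, hr, he⟩ := ih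
    obtain ⟨e, hb⟩ := ParaFLib.exists_stalk_gen hL x
    obtain ⟨c, hc⟩ := hb.2 (stalkLin s x (ParaFLib.oneG x))
    change c • e = _ at hc
    refine ⟨stalkTensor x (CohB1.tensorPow L n) L (g ⊗ₜ[X.presheaf.stalk x] e), r * c,
      AmpleLib.bijective_stalkTensor hg hb, mul_mem hr ?_, ?_⟩
    · refine mem_nonZeroDivisors_iff_right.2 fun z hz => ?_
      refine (ParaFLib.bijective_oneG x).1 ((mono_iff_stalk s).1 inferInstance x ?_)
      show stalkLin s x (z • ParaFLib.oneG x) = stalkLin s x ((0 : X.presheaf.stalk x) • ParaFLib.oneG x)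
      rw [zero_smul, map_zero, map_smul, ← hc, smul_smul, hz, zero_smul]
    · have h1 : AmpleLib.powS s (n + 1) = secHom (tmod (CohB1.tensorPow L n) L)
          (pairS (CohB1.tensorPow L n) L (AmpleLib.sec (AmpleLib.powS s n)) (AmpleLib.sec s)) := rfl
      rw [h1]
      refine (CurveLib.stalkLin_secHom (N := tmod (CohB1.tensorPow L n) L) _ x).trans ?_
      rw [AmpleLib.germ_pairS, ← CurveLib.stalkLin_secHom, ← CurveLib.stalkLin_secHom,
        AmpleLib.secHom_sec, AmpleLib.secHom_sec, he, ← hc, TensorProduct.smul_tmul_smul, map_smul]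

omit [IsProper (X ↘ Spec (CommRingCat.of k))] [X.Over (Spec (CommRingCat.of k))] in
theorem mem_genLocus_powS_iff (hL : PicF.IsInvertible L) (s : Coh.structureModule X ⟶ L) {n : ℕ} {x : X}
    {g : (CohB1.tensorPow L n).presheaf.stalk x} (hg : Function.Bijective (fun a : X.presheaf.stalk x => a • g))
    {r : X.presheaf.stalk x} (hr : stalkLin (AmpleLib.powS s n) x (ParaFLib.oneG x) = r • g) :
    x ∈ CohB1.genLocus _ (AmpleLib.powS s n) ↔ IsUnit r := by
  rw [AmpleLib.mem_genLocus_iff (AmpleLib.isInvertible_tensorPow hL n), ← CurveLib.stalkLin_secHom,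
    AmpleLib.secHom_sec, hr, AmpleLib.bijective_smul_iff hg]

omit [IsProper (X ↘ Spec (CommRingCat.of k))] [X.Over (Spec (CommRingCat.of k))] in
/-- The ideal of the `n`-th thickening of the zero scheme, as a map into `O`. -/
theorem exists_power_map (hL : PicF.IsInvertible L) (s : Coh.structureModule X ⟶ L) [Mono s] {M : X.Modules}
    (hM : PicF.IsInvertible M) (eLM : CohB1.tensorMod L M ≅ Coh.structureModule X) (n : ℕ) :
    ∃ φ : tmod (CohB1.tensorPow M (n + 1)) (Coh.structureModule X) ⟶ Coh.structureModule X, Mono φ ∧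
      (∀ x, x ∈ CohB1.genLocus L s → Function.Surjective (stalkLin φ x)) ∧
      ∀ x, x ∉ CohB1.genLocus L s → ∀ w, ∃ b ∈ IsLocalRing.maximalIdeal (X.presheaf.stalk x),
        stalkLin φ x w = b • ParaFLib.oneG x := by
  let N := CohB1.tensorPow L (n + 1)
  let P := CohB1.tensorPow M (n + 1)
  let e : tmod P N ≅ Coh.structureModule X :=
    AmpleLib.comm P N ≪≫ (AmpleLib.powTensor L M (n + 1)).symm ≪≫ AmpleLib.powCongr eLM (n + 1) ≪≫
      AmpleLib.powUnit (n + 1)
  have hP := AmpleLib.isInvertible_tensorPow hM (n + 1)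
  refine ⟨mulS P (AmpleLib.powS s (n + 1)) ≫ e.hom, ?_⟩
  have key : ∀ x, ∃ (g₀ : (tmod P (Coh.structureModule X)).presheaf.stalk x) (r : X.presheaf.stalk x) (v : X.presheaf.stalk x),
      Function.Bijective (fun a : X.presheaf.stalk x => a • g₀) ∧ r ∈ nonZeroDivisors (X.presheaf.stalk x) ∧
        (x ∈ CohB1.genLocus L s ↔ IsUnit r) ∧ IsUnit v ∧
        stalkLin (mulS P (AmpleLib.powS s (n + 1)) ≫ e.hom) x g₀ = (r * v) • ParaFLib.oneG x := by
    intro x
    obtain ⟨g, r, hg, hr, he⟩ := exists_nzd_powS hL s (n + 1) x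
    obtain ⟨p, hp⟩ := ParaFLib.exists_stalk_gen hP x
    have hgen := (mem_genLocus_powS_iff hL s hg he)
    rw [AmpleLib.genLocus_powS hL s n] at hgen
    have hb : Function.Bijective fun a : X.presheaf.stalk x => a • stalkLin e.hom x (stalkTensor x P N (p ⊗ₜ[X.presheaf.stalk x] g)) := by
      have h : (fun a : X.presheaf.stalk x => a • stalkLin e.hom x (stalkTensor x P N (p ⊗ₜ[X.presheaf.stalk x] g))) =
          stalkLin e.hom x ∘ fun a : X.presheaf.stalk x => a • stalkTensor x P N (p ⊗ₜ[X.presheaf.stalk x] g) :=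
        funext fun a => (map_smul _ a _).symm
      rw [h]
      exact ((isIso_iff_stalk e.hom).1 inferInstance x).comp (AmpleLib.bijective_stalkTensor hp hg)
    obtain ⟨v, hv⟩ := (ParaFLib.bijective_oneG x).2 (stalkLin e.hom x (stalkTensor x P N (p ⊗ₜ[X.presheaf.stalk x] g)))
    change v • ParaFLib.oneG x = _ at hv
    refine ⟨stalkTensor x P (Coh.structureModule X) (p ⊗ₜ[X.presheaf.stalk x] ParaFLib.oneG x), r, v,
      AmpleLib.bijective_stalkTensor hp (ParaFLib.bijective_oneG x), hr, hgen, ?_, ?_⟩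
    · refine (AmpleLib.bijective_smul_iff (ParaFLib.bijective_oneG x) v).1 ?_
      rw [hv]; exact hb
    · rw [stalkLin_comp, LinearMap.comp_apply, stalkTensor_natural_right, LinearMap.lTensor_tmul, he,
        TensorProduct.tmul_smul, map_smul, map_smul, ← hv, smul_smul]
  refine ⟨(mono_iff_stalk _).2 fun x => ?_, fun x hx z => ?_, fun x hx w => ?_⟩
  · obtain ⟨g₀, r, v, hg₀, hr, -, hv, hval⟩ := key x
    rw [injective_iff_map_eq_zero]
    intro w hw
    obtain ⟨a, rfl⟩ := hg₀.2 w
    rw [map_smul, hval, smul_smul] at hw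
    have h0 : a * (r * v) = 0 := (ParaFLib.bijective_oneG x).1 (hw.trans (zero_smul _ _).symm)
    have : a = 0 := mem_nonZeroDivisors_iff_right.1 (mul_mem hr hv.mem_nonZeroDivisors) a h0
    show a • g₀ = 0
    rw [this, zero_smul]
  · obtain ⟨g₀, r, v, -, -, hiff, hv, hval⟩ := key x
    obtain ⟨b, rfl⟩ := (ParaFLib.bijective_oneG x).2 z
    obtain ⟨u, hu⟩ := (hiff.1 hx).mul hv
    exact ⟨(b * ↑u⁻¹) • g₀, by rw [map_smul, hval, smul_smul, ← hu, mul_assoc, Units.inv_mul, mul_one]⟩
  · obtain ⟨g₀, r, v, hg₀, -, hiff, -, hval⟩ := key x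
    obtain ⟨a, rfl⟩ := hg₀.2 w
    exact ⟨a * (r * v), Ideal.mul_mem_left _ _ (Ideal.mul_mem_right _ _ fun hu => hx (hiff.2 hu)),
      by rw [map_smul, hval, smul_smul]⟩

include k in
/-- The complement of the locus where a regular section of an ample module generates is connected. -/
theorem isConnected_compl_genLocus [ConnectedSpace X] (hL : CohB1.IsAmple L) (s : Coh.structureModule X ⟶ L) [Mono s]
    (hdepth : ∀ x : X, IsClosed ({x} : Set X) → 2 ≤ LocCoh.depth (X.presheaf.stalk x) (X.presheaf.stalk x)) :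
    IsConnected ((CohB1.genLocus L s : Set X)ᶜ) := by
  classical
  let f := X ↘ Spec (CommRingCat.of k)
  haveI := EulerIneqLib.isNoetherian_proper (X := X) k
  obtain ⟨M, hM, ⟨eLM⟩⟩ := AmpleEmb.exists_isInverseOf hL.1
  obtain ⟨m₀, hm₀⟩ := Groth.Agent.S7680.result k X L hL M ⟨eLM⟩ (Coh.structureModule X) (DevLib.isCoh_structureModule X)
    (fun x hx => (Depth.depth_congr (LinearEquiv.ofBijective (LinearMap.toSpanSingleton _ _ (ParaFLib.oneG x))
      (ParaFLib.bijective_oneG x))) ▸ hdepth x hx)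
  set C := (CohB1.genLocus L s : Set X)ᶜ with hCdef
  have hCne : C.Nonempty := by
    by_contra hC
    rw [Set.not_nonempty_iff_eq_empty, hCdef, Set.compl_empty_iff] at hC
    have haff : IsAffineOpen (CohB1.genLocus L s) := AmpleLib.isAffineOpen_genLocus_of_universallyClosed f hL s
    rw [show CohB1.genLocus L s = ⊤ from Opens.ext hC] at haff
    haveI : IsAffine X := haff.of_isIso X.topIso.inv
    haveI := isArtinianRing_global (X := X) k
    haveI : DiscreteTopology ↥(Spec Γ(X, ⊤)) := inferInstanceAs (DiscreteTopology (PrimeSpectrum _))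
    obtain ⟨x, -, hxc⟩ := (isClosed_univ (X := X)).exists_closed_singleton Set.univ_nonempty
    haveI : DiscreteTopology X := X.isoSpec.hom.homeomorph.symm.discreteTopology
    have h1 : topologicalKrullDim X ≤ 0 := topologicalKrullDim_zero_of_discreteTopology X
    have h2 := (hdepth x hxc)
    have h3 := QGorLib.depth_le_supportDim (R := X.presheaf.stalk x) (X.presheaf.stalk x)
    rw [Module.supportDim_self_eq_ringKrullDim, ringKrullDim_stalk_eq_coheight] at h3
    have h4 : (Order.coheight x : WithBot ℕ∞) ≤ 0 := (Order.coheight_le_krullDim x).trans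
      (by rw [← FibDimLib.krullDim_points]; exact h1)
    have h5 : ((2 : ℕ∞) : WithBot ℕ∞) ≤ 0 := le_trans (by exact_mod_cast h2) (h3.trans h4)
    exact absurd h5 (by norm_num)
  refine ⟨hCne, ?_⟩
  have hCc : IsClosed C := (CohB1.genLocus L s).2.isClosed_compl
  rw [isPreconnected_closed_iff]
  intro t t' ht ht' hcov hne₁ hne₂
  by_contra hdis
  rw [Set.not_nonempty_iff_eq_empty] at hdis
  set C₁ := C ∩ t
  set C₂ := C ∩ t'
  have hC₁ : IsClosed C₁ := hCc.inter ht
  have hC₂ : IsClosed C₂ := hCc.inter ht'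
  obtain ⟨φ, hmono, hsurj, hsmall⟩ := exists_power_map hL.1 s hM eLM m₀
  haveI := hmono
  let Q := cokernel φ
  let π := cokernel.π φ
  have hsupp : ∀ x, x ∉ C → Subsingleton (Q.presheaf.stalk x) := fun x hx =>
    DevLib.subsingleton_coker φ (hsurj x (not_not.1 hx))
  -- the class of the idempotent on `Q`
  let U : Bool → X.Opens := fun b => cond b ⟨C₂ᶜ, hC₂.isOpen_compl⟩ ⟨C₁ᶜ, hC₁.isOpen_compl⟩
  let one : Γ(Coh.structureModule X, ⊤) := (1 : Γ(X, ⊤))
  let v : ∀ b, Γ(Q, U b) := fun b => cond b (Q.presheaf.map (homOfLE le_top).op (π.app ⊤ one)) 0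
  have hpair : ∀ b b', b ≠ b' → Subsingleton Γ(Q, U b ⊓ U b') := fun b b' hbb => by
    refine ⟨fun p q => TopCat.Presheaf.section_ext (⟨Q.presheaf, Q.isSheaf⟩ : TopCat.Sheaf Ab X) _ _ _ fun x hx => ?_⟩
    haveI := hsupp x (fun hxC => by
      rcases hcov hxC with h | h <;> cases b <;> cases b' <;>
        first
        | exact absurd rfl hbb
        | exact hx.1 ⟨hxC, h⟩
        | exact hx.2 ⟨hxC, h⟩)
    exact Subsingleton.elim _ _
  obtain ⟨σ, hσ, -⟩ := TopCat.Sheaf.existsUnique_gluing' (⟨Q.presheaf, Q.isSheaf⟩ : TopCat.Sheaf Ab X) U ⊤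
    (fun _ => homOfLE le_top) (fun z _ => by
      by_cases hz : z ∈ C₂
      · exact Opens.mem_iSup.2 ⟨false, fun h1 => Set.eq_empty_iff_forall_notMem.1 hdis z ⟨hz.1, h1.2, hz.2⟩⟩
      · exact Opens.mem_iSup.2 ⟨true, hz⟩) v (fun b b' => by
      rcases eq_or_ne b b' with rfl | h
      · rfl
      · exact (hpair b b' h).elim _ _)
  haveI hH1 : Subsingleton (Coh.HH X (DevLib.cokerSeq φ).X₁ 1) := by
    haveI := hm₀ (m₀ + 1) (Nat.le_succ _)
    exact ProjCoh.subsingleton_of_iso (M := CohB1.tensorMod (Coh.structureModule X) (CohB1.tensorPow M (m₀ + 1)))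
      (AmpleLib.comm _ _) 1
  have hS := DevLib.cokerSeq_shortExact φ
  obtain ⟨c, hc⟩ : ∃ c, hMap (k := k) (DevLib.cokerSeq φ).g 0 c = (secOf Q).symm σ := by
    have hz : (secOf Q).symm σ ∈ LinearMap.ker (hδ (k := k) hS 0) :=
      LinearMap.mem_ker.2 (Subsingleton.elim (α := Coh.HH X (DevLib.cokerSeq φ).X₁ 1) _ _)
    rw [← range_hMap_g] at hz
    exact hz
  let a : Γ(X, ⊤) := secOf (Coh.structureModule X) c
  have ha : π.app ⊤ (show Γ(Coh.structureModule X, ⊤) from a) = σ :=
    (secOf_hMap (k := k) _ _).symm.trans ((congrArg (secOf _) hc).trans ((secOf _).apply_symm_apply σ))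
  have hgerm : ∀ (x : X) (b : Bool) (hx : x ∈ U b) (d : Γ(X, ⊤)),
      Q.presheaf.germ (U b) x hx (v b) = stalkLin π x ((X.presheaf.germ ⊤ x trivial d) • ParaFLib.oneG x) →
      x ∈ C → X.presheaf.germ ⊤ x trivial (a - d) ∈ IsLocalRing.maximalIdeal (X.presheaf.stalk x) := by
    intro x b hx d hd hxC
    have h1 : Q.presheaf.germ ⊤ x trivial σ = Q.presheaf.germ (U b) x hx (v b) := by
      rw [← hσ b]
      exact (TopCat.Presheaf.germ_res_apply Q.presheaf _ x hx σ).symm
    have hone : ∀ d : Γ(X, ⊤), (Coh.structureModule X).presheaf.germ ⊤ x trivial (show Γ(Coh.structureModule X, ⊤) from d) =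
        X.presheaf.germ ⊤ x trivial d • ParaFLib.oneG x := fun d => by
      rw [ParaFLib.oneG, ← ParaFLib.germ_smul']
      exact congrArg _ (mul_one d).symm
    have h2 : stalkLin π x ((X.presheaf.germ ⊤ x trivial (a - d)) • ParaFLib.oneG x) = 0 := by
      rw [map_sub, sub_smul, map_sub, ← hd, ← h1, ← ha, ← stalkLin_germ π, hone, sub_self]
    obtain ⟨w, hw⟩ := (DevLib.coker_exact φ x _).1 h2
    obtain ⟨r, hr, hrw⟩ := hsmall x hxC w
    rw [← (ParaFLib.bijective_oneG x).1 (hrw.symm.trans hw)]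
    exact hr
  obtain ⟨x₁, hx₁, hx₁'⟩ := hne₁
  obtain ⟨x₂, hx₂, hx₂'⟩ := hne₂
  have h1m := hgerm x₁ true (fun h => Set.eq_empty_iff_forall_notMem.1 hdis x₁ ⟨hx₁, hx₁', h.2⟩) 1 (by
    show Q.presheaf.germ _ x₁ _ (Q.presheaf.map (homOfLE le_top).op (π.app ⊤ one)) = _
    rw [TopCat.Presheaf.germ_res_apply, ← stalkLin_germ π]
    refine congrArg _ (Eq.trans ?_ (one_smul _ _).symm |>.trans (congrArg (· • ParaFLib.oneG x₁) (map_one _).symm))
    rfl) hx₁
  have h2m := hgerm x₂ false (fun h => Set.eq_empty_iff_forall_notMem.1 hdis x₂ ⟨hx₂, h.2, hx₂'⟩) 0 (by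
    show Q.presheaf.germ _ x₂ _ 0 = _
    rw [map_zero, map_zero, zero_smul, map_zero]) hx₂
  rw [sub_zero] at h2m
  rcases isUnit_or_isNilpotent k a with hu | hn
  · exact h2m (hu.map (X.presheaf.germ ⊤ x₂ trivial).hom)
  · refine h1m ?_
    rw [map_sub, map_one]
    exact ((hn.map (X.presheaf.germ ⊤ x₁ trivial).hom).isUnit_sub_one)

end Groth.Agent.ZeroConnLib
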